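import Cfsg.Agent.SM.Uj.Mod

/-!
# SM: the subgroups of order `|M₂₂|` and `|U₅(2)|` of `U₆(2)` over an element of order 11 (helper88)
-/

set_option autoImplicit false

namespace Cfsg.Agent.SM.Uj

open Cfsg Cfsg.Agent.H365.RIM Subgroup

section general

variable {G : Type*} [Group G] [Finite G]

theorem conj_zp {p : ℕ} (hp : p.Prime) {a b : G} (ha : orderOf a = p) (hb : orderOf b = p) (h2 : ¬ p ^ 2 ∣ Nat.card G) :
    ∃ n, n * a * n⁻¹ ∈ zpowers b := by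
  have : Fact p.Prime := ⟨hp⟩
  obtain ⟨P, hP⟩ := (IsPGroup.of_card (p := p) (n := 1) (G := zpowers a)
    (by rw [Nat.card_zpowers, ha, pow_one])).exists_le_sylow
  obtain ⟨Q, hQ⟩ := (IsPGroup.of_card (p := p) (n := 1) (G := zpowers b)
    (by rw [Nat.card_zpowers, hb, pow_one])).exists_le_sylow
  obtain ⟨n, hn⟩ := IsPGroup.iff_card.1 Q.isPGroup'
  have h3 : n ≤ 1 := by
    by_contra k
    exact h2 ((pow_dvd_pow p (by omega)).trans (hn ▸ card_subgroup_dvd_card (Q : Subgroup G)))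
  have h4 : zpowers b = Q := eq_of_le_of_card_ge hQ (by
    rw [hn, Nat.card_zpowers, hb]
    exact (Nat.pow_le_pow_right hp.pos h3).trans (pow_one p).le)
  obtain ⟨m, hm⟩ := MulAction.exists_smul_eq G P Q
  refine ⟨m, ?_⟩
  rw [h4, ← hm, Sylow.coe_subgroup_smul]
  exact smul_mem_pointwise_smul _ (MulAut.conj m) _ (hP (mem_zpowers a))

theorem nk {p : ℕ} (hp : p.Prime) {a : G} (ha : orderOf a = p) {K : Subgroup G} (hK : a ∈ K) (h2 : ¬ p ^ 2 ∣ Nat.card K) :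
    ∃ r, r % p = 1 % p ∧ Nat.card ↥(normalizer (zpowers a : Set G) ⊓ K) * r = Nat.card K := by
  have h1 := nx_modEq (S := K) hp (x := ⟨a, hK⟩) (by rw [← ha]; exact (orderOf_coe _).symm) h2
  have h3 : zpowers (⟨a, hK⟩ : K) = (zpowers a).subgroupOf K := by
    ext y
    rw [mem_subgroupOf, mem_zpowers_iff, mem_zpowers_iff]
    exact exists_congr fun k => Subtype.ext_iff
  rw [h3, ← subgroupOf_normalizer_eq (zpowers_le.2 hK)] at h1
  refine ⟨_, h1, ?_⟩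
  rw [← ((normalizer (zpowers a : Set G)).subgroupOf K).card_mul_index, ← inf_subgroupOf_right,
    Nat.card_congr (subgroupOfEquivOfLe inf_le_right).toEquiv, inf_subgroupOf_right]

theorem mem_norm_zp {a n : G} (h : n * a * n⁻¹ ∈ zpowers a) : n ∈ normalizer (zpowers a : Set G) :=
  mem_normalizer_fintype fun y hy => by
    obtain ⟨k, rfl⟩ := mem_zpowers_iff.1 hy
    rw [← conj_zpow]
    exact zpow_mem h k

omit [Finite G] in
theorem conj_iter {a b : G} {r : ℕ} (h : a * b * a⁻¹ = b ^ r) : ∀ i : ℕ, a ^ i * b * (a ^ i)⁻¹ = b ^ r ^ i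
  | 0 => by simp
  | i + 1 => by
    rw [show a ^ (i + 1) * b * (a ^ (i + 1))⁻¹ = a * (a ^ i * b * (a ^ i)⁻¹) * a⁻¹ by group, conj_iter h i, ← conj_pow, h,
      ← pow_mul, pow_succ']

end general

theorem card_nx' : Nat.card (normalizer (zpowers x : Set G0)) = 55 := by
  have := finite_PSU
  obtain ⟨w, h1, h2, j, hj0, hj, hr⟩ := card_nx (by norm_num : Nat.Prime 11) ord_x (cent_eleven ord_x) fx
  have h3 : w ≤ 10 := Nat.le_of_dvd (by norm_num) h2
  have h4 : 0 < w := Nat.pos_of_dvd_of_pos h2 (by norm_num)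
  have h5 : j ≤ w := Nat.le_of_dvd h4 hj
  have h6 : j = 5 ∨ j = 10 := by
    have : j ≤ 10 := h5.trans h3
    interval_cases j <;> simp_all
  have h7 : w = 5 ∨ w = 10 := by
    obtain ⟨c, rfl⟩ := hj
    rcases h6 with rfl | rfl <;> omega
  rcases h7 with rfl | rfl
  · exact h1
  · have h8 := card_mul_index (normalizer (zpowers x : Set G0))
    have h10 : _ % 11 = 1 % 11 := nx_modEq (by norm_num : Nat.Prime 11) ord_x not_dvd_sq.2.2
    rw [h1, card_PSU] at h8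
    omega

variable {K : Subgroup G0}

theorem f_mem (hx : x ∈ K) (h : Nat.card K = 443520 ∨ Nat.card K = 13685760) : f ∈ K := by
  have := finite_PSU
  obtain ⟨r, h1, h2⟩ := nk (by norm_num : Nat.Prime 11) ord_x hx (by rcases h with h | h <;> rw [h] <;> norm_num)
  have h3 : Nat.card ↥(normalizer (zpowers x : Set G0) ⊓ K) ∣ 55 := card_nx' ▸ card_dvd_of_le inf_le_left
  have h4 : 11 ∣ Nat.card ↥(normalizer (zpowers x : Set G0) ⊓ K) :=
    ord_x ▸ orderOf_dvd_natCard _ ⟨le_normalizer (mem_zpowers x), hx⟩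
  have h5 : Nat.card ↥(normalizer (zpowers x : Set G0) ⊓ K) = 55 := by
    generalize Nat.card ↥(normalizer (zpowers x : Set G0) ⊓ K) = m at h2 h3 h4
    obtain ⟨m, rfl⟩ := h4
    have h6 : m ∣ 5 := Nat.dvd_of_mul_dvd_mul_left (by norm_num : 0 < 11) h3
    rcases (Nat.dvd_prime Nat.prime_five).1 h6 with rfl | rfl
    · omega
    · rfl
  have h6 := eq_of_le_of_card_ge (inf_le_left : normalizer (zpowers x : Set G0) ⊓ K ≤ _) (by rw [h5, card_nx'])
  exact (h6.ge (mem_norm_zp (fx ▸ pow_mem (mem_zpowers x) 4))).2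

theorem s_pow_c (k j : ℕ) : s ^ k * c ^ j = c ^ (2 ^ k * j) * s ^ k := by
  rw [← mul_inv_eq_iff_eq_mul, ← conj_pow, conj_iter (r := 2) (mul_inv_eq_iff_eq_mul.2 sc), pow_mul]

theorem nf_mul (j k i j' k' i' : ℕ) :
    c ^ j * s ^ k * f ^ i * (c ^ j' * s ^ k' * f ^ i') = c ^ (j + 2 ^ k * j') * s ^ (k + k') * f ^ (i + i') := by
  have h1 : f ^ i * (c ^ j' * s ^ k') = c ^ j' * s ^ k' * f ^ i :=
    (((cf.pow_pow j' i).mul_left (sf.pow_pow k' i)).eq).symm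
  calc _ = c ^ j * s ^ k * (f ^ i * (c ^ j' * s ^ k')) * f ^ i' := by simp only [mul_assoc]
    _ = c ^ j * (s ^ k * c ^ j') * s ^ k' * f ^ i * f ^ i' := by rw [h1]; simp only [mul_assoc]
    _ = _ := by rw [s_pow_c, pow_add, pow_add, pow_add]; simp only [mul_assoc]

/-- the normal forms -/
def CF : Subgroup G0 where
  carrier := {y | ∃ j k i : ℕ, y = c ^ j * s ^ k * f ^ i}
  one_mem' := ⟨0, 0, 0, by simp⟩
  mul_mem' := by
    rintro _ _ ⟨j, k, i, rfl⟩ ⟨j', k', i', rfl⟩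
    exact ⟨_, _, _, nf_mul _ _ _ _ _ _⟩
  inv_mem' := by
    rintro _ ⟨j, k, i, rfl⟩
    refine ⟨2 ^ k * (2 * j), k, 4 * i, inv_eq_of_mul_eq_one_right ?_⟩
    have h1 : (j + 2 ^ k * (2 ^ k * (2 * j))) % 3 = 0 := by
      have h2 : 2 ^ k * 2 ^ k % 3 = 1 := by rw [← mul_pow, Nat.pow_mod]; simp
      rw [← mul_assoc, Nat.add_mod, Nat.mul_mod, h2]
      omega
    rw [nf_mul, pow_eq_pow_mod _ c3, h1, ← two_mul, pow_mul, s2, show i + 4 * i = 5 * i by ring, pow_mul, f5]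
    simp

theorem cen_f {y : G0} (h : y * f = f * y) : ∃ j k i : ℕ, k < 2 ∧ y = c ^ j * s ^ k * f ^ i := by
  have := finite_PSU
  have h1 : CF ≤ centralizer {f} := by
    rintro _ ⟨j, k, i, rfl⟩
    exact mem_centralizer_singleton_iff.2
      (((cf.pow_left j).mul_left (sf.pow_left k)).mul_left ((Commute.refl f).pow_left i)).eq
  have h2 : 5 ∣ Nat.card CF := ord_f ▸ orderOf_dvd_natCard _ ⟨0, 0, 1, by simp⟩
  have h3 : 3 ∣ Nat.card CF := ord_c ▸ orderOf_dvd_natCard _ ⟨1, 0, 0, by simp⟩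
  have h4 : 2 ∣ Nat.card CF := ord_s.symm.dvd.trans (orderOf_dvd_natCard _ ⟨0, 1, 0, by simp⟩)
  have h5 : 0 < Nat.card CF := Nat.card_pos
  have h6 : Nat.card (centralizer {f} : Subgroup G0) = 5 * 6 := Five.card_cent_five
  obtain ⟨j, k, i, e⟩ := (eq_of_le_of_card_ge h1 (by omega)).ge (mem_centralizer_singleton_iff.2 h)
  exact ⟨j, k % 2, i, Nat.mod_lt _ (by norm_num), by rw [e, ← pow_eq_pow_mod _ s2]⟩

theorem norm_f {y : G0} (h : y * f * y⁻¹ ∈ zpowers f) :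
    ∃ l j k i : ℕ, l < 4 ∧ k < 2 ∧ y = g ^ l * (c ^ j * s ^ k) * f ^ i := by
  classical
  have := finite_PSU
  obtain ⟨e, he, h1⟩ := Finset.mem_image.1 (mem_zpowers_iff_mem_range_orderOf.1 h)
  rw [ord_f, Finset.mem_range] at he
  have h2 : e ≠ 0 := by
    rintro rfl
    have h3 := ord_f
    rw [pow_zero, eq_mul_inv_iff_mul_eq, one_mul, left_eq_mul] at h1
    rw [h1, orderOf_one] at h3
    cases h3
  obtain ⟨l, hl, h3⟩ := (by decide : ∀ e < 5, e ≠ 0 → ∃ l < 4, 2 ^ l % 5 = e) e he h2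
  have h4 := conj_iter gf l
  rw [pow_eq_pow_mod _ f5, h3, h1] at h4
  obtain ⟨j, k, i, hk, h5⟩ := cen_f (y := (g ^ l)⁻¹ * y) (by
    calc (g ^ l)⁻¹ * y * f = (g ^ l)⁻¹ * (y * f * y⁻¹) * y := by group
      _ = _ := by rw [← h4]; group)
  exact ⟨l, j, k, i, hl, hk, by rw [mul_assoc, ← h5, mul_inv_cancel_left]⟩

/-- **The overgroups.** -/
theorem ov (hx : x ∈ K) (hf : f ∈ K) {y : G0} (hy : y ∈ K) (h : y * f * y⁻¹ ∈ zpowers f) :
    (∃ l < 2, ∃ i < 5, y = (g ^ 2) ^ l * f ^ i) ∨ c ∈ K ∨ ∃ m, g * s ∈ mp m K := by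
  obtain ⟨l, j, k, i, hl, hk, rfl⟩ := norm_f h
  have h1 : g ^ l * (c ^ j * s ^ k) ∈ K := (K.mul_mem_cancel_right (pow_mem hf i)).1 hy
  interval_cases k
  · rw [pow_zero, mul_one] at h1 ⊢
    have h2 := pow_mem (pow_mem h1 4) j
    rw [(gc.pow_pow l j).mul_pow, ← pow_mul, mul_comm, pow_mul, g4, one_pow, one_mul, ← pow_mul, ← pow_mul,
      pow_eq_pow_mod _ c3] at h2
    by_cases h4 : j % 3 = 0
    · rw [pow_eq_pow_mod _ c3, h4, pow_zero, mul_one] at h1 ⊢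
      rw [pow_eq_pow_mod i f5]
      interval_cases l
      · exact Or.inl ⟨0, by norm_num, _, Nat.mod_lt _ (by norm_num), rfl⟩
      · exact Or.inr (Or.inl (c_of_g hx hf (by simpa using h1)))
      · exact Or.inl ⟨1, by norm_num, _, Nat.mod_lt _ (by norm_num), by rw [pow_one]⟩
      · refine Or.inr (Or.inl (c_of_g hx hf ?_))
        have h5 := pow_mem h1 3
        rwa [← pow_mul, pow_eq_pow_mod _ g4, pow_one] at h5
    · have h5 : j * (4 * j) % 3 = 1 := by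
        rw [Nat.mul_mod, Nat.mul_mod 4]
        have h6 : j % 3 = 1 ∨ j % 3 = 2 := by omega
        rcases h6 with h6 | h6 <;> rw [h6]
      rw [h5, pow_one] at h2
      exact Or.inr (Or.inl h2)
  · have h2 := (mem_mp (m := j)).2 h1
    rw [map_mul, map_mul, map_pow, map_pow, pow_one, dl_fix dl_g, dl_fix dl_c, dl_pow_s, ← mul_assoc (c ^ j), ← pow_add,
      show j + 2 * j = 3 * j by ring, pow_mul, c3, one_pow, one_mul] at h2
    have hx' := (mem_mp' (m := j) dl_x).2 hx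
    have hf' := (mem_mp' (m := j) dl_f).2 hf
    interval_cases l
    · exact Or.inr (Or.inl ((mem_mp' dl_c).1 (c_of_s hx' hf' (by simpa using h2))))
    · exact Or.inr (Or.inr ⟨j, by simpa using h2⟩)
    · exact Or.inr (Or.inl ((mem_mp' dl_c).1 (c_of_ggs hx' hf' h2)))
    · refine Or.inr (Or.inr ⟨j, ?_⟩)
      have h5 := pow_mem h2 3
      rwa [(gs.pow_left 3).mul_pow, ← pow_mul, pow_eq_pow_mod _ g4, pow_one, pow_eq_pow_mod _ s2, pow_one] at h5

/-- `U₅(2)` -/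
def T0 : Subgroup G0 := closure {x, f, c}

/-- `M₂₂` -/
def B0 : Subgroup G0 := closure {x, f, g * s}

theorem xT : x ∈ T0 := subset_closure (by simp)
theorem fT : f ∈ T0 := subset_closure (by simp)
theorem cT : c ∈ T0 := subset_closure (by simp)
theorem xB : x ∈ B0 := subset_closure (by simp)
theorem fB : f ∈ B0 := subset_closure (by simp)
theorem yB : g * s ∈ B0 := subset_closure (by simp)

theorem ggB : g ^ 2 ∈ B0 := by
  have h := pow_mem yB 2
  rwa [gs.mul_pow, s2, mul_one] at h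

theorem B0_le (hx : x ∈ K) (hf : f ∈ K) (h : g * s ∈ K) : B0 ≤ K := (closure_le _).2 (by
  rintro _ (rfl | rfl | rfl) <;> assumption)

theorem T0_le (hx : x ∈ K) (hf : f ∈ K) (h : c ∈ K) : T0 ≤ K := (closure_le _).2 (by
  rintro _ (rfl | rfl | rfl) <;> assumption)

theorem B_class (hx : x ∈ K) (h : Nat.card K = 443520) : ∃ m, mp m K = B0 := by
  have := finite_PSU
  have hf := f_mem hx (Or.inl h)
  obtain ⟨r, h1, h2⟩ := nk Nat.prime_five ord_f hf (by rw [h]; norm_num)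
  have h4 : 5 ∣ Nat.card ↥(normalizer (zpowers f : Set G0) ⊓ K) :=
    ord_f ▸ orderOf_dvd_natCard _ ⟨le_normalizer (mem_zpowers f), hf⟩
  by_contra hn
  have h5 : ((normalizer (zpowers f : Set G0) ⊓ K : Subgroup G0) : Set G0) ⊆
      Set.range fun p : Fin 2 × Fin 5 => (g ^ 2) ^ p.1.1 * f ^ p.2.1 := fun y hy => by
    rcases ov hx hf hy.2 ((mem_normalizer_iff.1 hy.1 f).1 (mem_zpowers f)) with ⟨l, hl, i, hi, e⟩ | k | ⟨m, k⟩
    · exact ⟨(⟨l, hl⟩, ⟨i, hi⟩), e.symm⟩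
    · have k1 := leT hx hf k
      omega
    · exact absurd ⟨m, (eq_of_le_of_card_ge (B0_le ((mem_mp' dl_x).2 hx) ((mem_mp' dl_f).2 hf) k)
        (by rw [card_mp, h]; exact leB xB fB yB)).symm⟩ hn
  have h6 : Nat.card ↥(normalizer (zpowers f : Set G0) ⊓ K) ≤ 10 := by
    refine (Set.ncard_le_ncard h5).trans ?_
    rw [← Set.image_univ]
    exact (Set.ncard_image_le Set.finite_univ).trans (by simp)
  generalize Nat.card ↥(normalizer (zpowers f : Set G0) ⊓ K) = m at h2 h4 h6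
  obtain ⟨m, rfl⟩ := h4
  have h7 : m ≤ 2 := by omega
  interval_cases m <;> omega

theorem T_class (hx : x ∈ K) (h : Nat.card K = 13685760) (hB : Nat.card B0 = 443520) {t b : G0} (ht : t ∈ K) (hb : b ∈ B0)
    (e : c = t * b) : K = T0 := by
  have := finite_PSU
  have hf := f_mem hx (Or.inr h)
  have h1 : t⁻¹ * f * t = b * f * b⁻¹ := by
    have h2 := cf.eq
    rw [e] at h2
    calc t⁻¹ * f * t = t⁻¹ * (f * (t * b)) * b⁻¹ := by group
      _ = _ := by rw [← h2]; group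
  have h2 : t⁻¹ * f * t ∈ K ⊓ B0 := ⟨K.mul_mem (K.mul_mem (K.inv_mem ht) hf) ht,
    h1 ▸ B0.mul_mem (B0.mul_mem hb fB) (B0.inv_mem hb)⟩
  obtain ⟨u, hu⟩ := conj_zp (G := ↥(K ⊓ B0)) Nat.prime_five (a := ⟨_, h2⟩) (b := ⟨f, hf, fB⟩) (by
      rw [← orderOf_coe, ← ord_f]
      exact (MulAut.conj t⁻¹).orderOf_eq f ▸ congrArg orderOf (by simp)) (by rw [← orderOf_coe, ord_f])
    fun k => absurd (k.trans (hB ▸ card_dvd_of_le inf_le_right)) (by norm_num)
  have h3 : (u : G0) * t⁻¹ * f * ((u : G0) * t⁻¹)⁻¹ ∈ zpowers f := by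
    obtain ⟨k, hk⟩ := mem_zpowers_iff.1 hu
    refine mem_zpowers_iff.2 ⟨k, (congrArg Subtype.val hk).trans ?_⟩
    show (u : G0) * (t⁻¹ * f * t) * (u : G0)⁻¹ = _
    group
  rcases ov hx hf (K.mul_mem u.2.1 (K.inv_mem ht)) h3 with ⟨l, -, i, -, k⟩ | k | ⟨m, k⟩
  · have k1 : (u : G0) * t⁻¹ ∈ B0 := k ▸ B0.mul_mem (pow_mem ggB l) (pow_mem fB i)
    have k2 := leT xB fB (e ▸ B0.mul_mem (B0.inv_mem_iff.1 ((B0.mul_mem_cancel_left u.2.2).1 k1)) hb)
    omega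
  · exact (eq_of_le_of_card_ge (T0_le hx hf k) (h ▸ leT xT fT cT)).symm
  · have k1 := card_dvd_of_le (B0_le ((mem_mp' dl_x).2 hx) ((mem_mp' dl_f).2 hf) k)
    rw [card_mp, h, hB] at k1
    norm_num at k1

theorem three_f {y : G0} (h : y * f = f * y) (h3 : y ^ 3 = 1) (h1 : y ≠ 1) : y = c ∨ y = c ^ 2 := by
  obtain ⟨j, k, i, hk, rfl⟩ := cen_f h
  have h4 : ∀ a : G0, a ^ 6 = 1 → Commute a f → (a * f ^ i) ^ 3 = 1 → f ^ i = 1 := fun a k1 k2 k3 => by
    have k4 : (a * f ^ i) ^ 6 = 1 := (pow_mul _ 3 2).trans (by rw [k3, one_pow])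
    rwa [(k2.pow_right i).mul_pow, k1, one_mul, pow_succ, ← pow_mul, mul_comm i, pow_mul, f5, one_pow, one_mul] at k4
  interval_cases k
  · rw [pow_zero, mul_one] at h3 h1 ⊢
    rw [h4 _ (by rw [← pow_mul, show j * 6 = 3 * (2 * j) by ring, pow_mul, c3, one_pow]) (cf.pow_left j) h3, mul_one,
      pow_eq_pow_mod _ c3] at h1 ⊢
    have h5 : j % 3 = 0 ∨ j % 3 = 1 ∨ j % 3 = 2 := by omega
    rcases h5 with h5 | h5 | h5 <;> rw [h5] at h1 ⊢
    · exact absurd rfl h1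
    · exact Or.inl (pow_one c)
    · exact Or.inr rfl
  · have h5 : (c ^ j * s ^ 1) ^ 2 = 1 := by
      rw [pow_two, mul_assoc, ← mul_assoc (s ^ 1), s_pow_c, mul_assoc, ← pow_add, s2, mul_one, ← pow_add,
        show j + 2 ^ 1 * j = 3 * j by ring, pow_mul, c3, one_pow]
    rw [h4 _ ((pow_mul _ 2 3).trans (by rw [h5, one_pow])) ((cf.pow_left j).mul_left (sf.pow_left 1)) h3,
      mul_one] at h1 h3
    rw [pow_succ, h5, one_mul] at h3
    exact absurd h3 h1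

end Cfsg.Agent.SM.Uj
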