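import Cfsg.Agent.SM.Uj.Loc
import Cfsg.Agent.SM.Rig

/-!
# SM: the row `(U₅(2), 20736)` in `U₆(2)` has at most two overgroups (helper88)
-/

set_option autoImplicit false

namespace Cfsg.Agent.SM.Uj

open Cfsg Cfsg.Agent.H365.RIM Cfsg.Agent.SporadicA.FieldFour Subgroup Equiv MulAction

theorem x11 : x ^ 11 = 1 := by rw [← ord_x, pow_orderOf_eq_one]

/-- two classes of elements of order 11 -/
theorem conj_x {y : G0} (hy : orderOf y = 11) : ∃ n, n * y * n⁻¹ = x ∨ n * y * n⁻¹ = x⁻¹ := by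
  classical
  have := finite_PSU
  obtain ⟨n, hn⟩ := conj_zp (by norm_num : Nat.Prime 11) hy ord_x (by rw [card_PSU]; norm_num)
  obtain ⟨e, he, h1⟩ := Finset.mem_image.1 (mem_zpowers_iff_mem_range_orderOf.1 hn)
  rw [ord_x, Finset.mem_range] at he
  have h2 : e ≠ 0 := by
    rintro rfl
    rw [pow_zero, eq_mul_inv_iff_mul_eq, one_mul, left_eq_mul] at h1
    rw [h1, orderOf_one] at hy
    cases hy
  obtain ⟨i, -, h3⟩ := (by decide : ∀ e < 11, e ≠ 0 → ∃ i < 5, 4 ^ i * e % 11 = 1 ∨ 4 ^ i * e % 11 = 10) e he h2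
  have h4 : f ^ i * n * y * (f ^ i * n)⁻¹ = x ^ (4 ^ i * e % 11) := by
    rw [← pow_eq_pow_mod _ x11, pow_mul, ← conj_iter fx i, conj_pow, h1]
    group
  refine ⟨f ^ i * n, h3.imp (fun k => ?_) fun k => ?_⟩
  · rw [h4, k, pow_one]
  · rw [h4, k, eq_inv_iff_mul_eq_one, ← pow_succ, x11]

/-- **normal form of the factorisation** -/
theorem nf0 {T B : Subgroup G0} (hT : Nat.card T = 13685760) (hB : Nat.card B = 443520)
    (fac : ∀ a, ∃ t ∈ T, ∃ b ∈ B, a = t * b) {y : G0} (h1 : y ∈ T) (h2 : y ∈ B) (hy : orderOf y = 11) :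
    ∃ β : MulAut G0, (β y = x ∨ β y = x⁻¹) ∧ (∀ a, a ∈ T ↔ β a ∈ T0) ∧ ∀ a, a ∈ B ↔ β a ∈ B0 := by
  obtain ⟨n, hn⟩ := conj_x hy
  have k1 : ∀ K : Subgroup G0, y ∈ K → x ∈ K.map (MulAut.conj n).toMonoidHom := fun K hK => by
    have k : n * y * n⁻¹ ∈ K.map (MulAut.conj n).toMonoidHom := ⟨y, hK, rfl⟩
    rcases hn with hn | hn <;> rw [hn] at k
    · exact k
    · exact (inv_mem_iff).1 k
  have k2 : ∀ K : Subgroup G0, Nat.card (K.map (MulAut.conj n).toMonoidHom) = Nat.card K := fun K =>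
    card_map_of_injective (MulAut.conj n).injective
  have k3 : ∀ (m : ℕ) (K : Subgroup G0) (a : G0),
      a ∈ K ↔ (dl ^ m * MulAut.conj n) a ∈ mp m (K.map (MulAut.conj n).toMonoidHom) := fun m K a =>
    ((mem_map_iff_mem (f := (MulAut.conj n).toMonoidHom) (MulAut.conj n).injective).symm).trans mem_mp.symm
  obtain ⟨m, hm⟩ := B_class (k1 B h2) ((k2 B).trans hB)
  obtain ⟨t, ht, b, hb, e⟩ := fac ((dl ^ m * MulAut.conj n).symm c)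
  have k4 := T_class ((mem_mp' (m := m) dl_x).2 (k1 T h1)) (by rw [card_mp, k2, hT]) (by rw [← hm, card_mp, k2, hB])
    ((k3 m T t).1 ht) (hm ▸ (k3 m B b).1 hb) (by rw [← map_mul, ← e, MulEquiv.apply_symm_apply])
  refine ⟨dl ^ m * MulAut.conj n, hn.imp (fun k => ?_) fun k => ?_, fun a => k4 ▸ k3 m T a, fun a => hm ▸ k3 m B a⟩
  · rw [MulAut.mul_apply, MulAut.conj_apply, k, dl_fix dl_x]
  · rw [MulAut.mul_apply, MulAut.conj_apply, k, map_inv, dl_fix dl_x]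

/-- the element of order 5 -/
theorem conj_f {z : G0} (h : z * x * z⁻¹ = x ^ 4) : ∃ i : ℤ, x ^ i * z * (x ^ i)⁻¹ = f := by
  have := finite_PSU
  have h1 : zpowers x = centralizer {x} := eq_of_le_of_card_ge
    (zpowers_le.2 (mem_centralizer_singleton_iff.2 rfl)) (by rw [Nat.card_zpowers, ord_x, cent_eleven ord_x])
  obtain ⟨i, hi⟩ := mem_zpowers_iff.1 (h1.ge (mem_centralizer_singleton_iff.2 (show f⁻¹ * z * x = x * (f⁻¹ * z) by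
    calc f⁻¹ * z * x = f⁻¹ * (z * x * z⁻¹) * z := by group
      _ = _ := by rw [h, ← fx]; group)))
  have h2 : f * x ^ (4 * i) * f⁻¹ = x ^ (5 * i) := by
    rw [← conj_zpow, fx, ← zpow_natCast, ← zpow_mul, show ((4 : ℕ) : ℤ) * (4 * i) = 5 * i + (11 : ℕ) * i by push_cast; ring,
      zpow_add, zpow_mul x (11 : ℕ) i, zpow_natCast, x11, one_zpow, mul_one]
  refine ⟨5 * i, ?_⟩
  rw [eq_inv_mul_iff_mul_eq] at hi
  calc _ = f * x ^ (4 * i) * f⁻¹ * (f * x ^ i) * (x ^ (5 * i))⁻¹ := by rw [h2, hi]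
    _ = f := by group

/-- the normal form with a given element of order 5 -/
theorem nf1 {A : Type*} [Group A] {T B : Subgroup A} {y z : A} (h : z * y * z⁻¹ = y ^ 4) (φ : A ≃* G0)
    (h1 : φ y = x ∨ φ y = x⁻¹) (h2 : ∀ a, a ∈ T ↔ φ a ∈ T0) (h3 : ∀ a, a ∈ B ↔ φ a ∈ B0) :
    ∃ ψ : A ≃* G0, (ψ y = x ∨ ψ y⁻¹ = x) ∧ ψ z = f ∧ (∀ a, a ∈ T ↔ ψ a ∈ T0) ∧ ∀ a, a ∈ B ↔ ψ a ∈ B0 := by
  have h4 := congrArg φ h
  rw [map_mul, map_mul, map_inv, map_pow] at h4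
  obtain ⟨i, hi⟩ := conj_f (z := φ z) (by
    rcases h1 with k | k <;> rw [k] at h4
    · exact h4
    · rw [← inv_inj, ← inv_pow, ← h4]
      group)
  have k : ∀ K : Subgroup G0, x ∈ K → ∀ a, a ∈ K ↔ x ^ i * a * (x ^ i)⁻¹ ∈ K := fun K hK a => by
    rw [K.mul_mem_cancel_right (K.inv_mem (zpow_mem hK i)), K.mul_mem_cancel_left (zpow_mem hK i)]
  refine ⟨φ.trans (MulAut.conj (x ^ i)), h1.imp (fun e => ?_) fun e => ?_, hi, fun a => (h2 a).trans (k _ xT _),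
    fun a => (h3 a).trans (k _ xB _)⟩
  · show x ^ i * φ y * (x ^ i)⁻¹ = x
    rw [e]
    group
  · show x ^ i * φ y⁻¹ * (x ^ i)⁻¹ = x
    rw [map_inv, e]
    group

/-- **rigidity of `T₀`** -/
theorem agree {A : Type*} [Group A] {ψ₁ ψ₂ : A →* G0} (i₁ : Function.Injective ψ₁) (i₂ : Function.Injective ψ₂) {y z w : A}
    (y₁ : ψ₁ y = x) (y₂ : ψ₂ y = x) (z₁ : ψ₁ z = f) (z₂ : ψ₂ z = f) (w₂ : ψ₂ w = c) {t : A} (ht : ψ₂ t ∈ T0) : ψ₁ t = ψ₂ t := by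
  have h1 : w * z = z * w := i₂ (by rw [map_mul, map_mul, w₂, z₂, cf.eq])
  have h2 : w ^ 3 = 1 := i₂ (by rw [map_pow, w₂, c3, map_one])
  have h3 : ψ₁ w ≠ 1 := fun k => by
    have h4 := ord_c
    rw [← w₂, i₁ (k.trans (map_one ψ₁).symm), map_one, orderOf_one] at h4
    cases h4
  have w₁ : ψ₁ w = c := (three_f (by rw [← z₁, ← map_mul, h1, map_mul]) (by rw [← map_pow, h2, map_one]) h3).resolve_right
    fun k => xc9 (by
      rw [← y₂, ← w₂, ← map_mul, ← map_pow, i₁ (show ψ₁ ((y * w) ^ 9) = ψ₁ 1 by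
        rw [map_pow, map_mul, y₁, k, xcc9, map_one]), map_one])
  obtain ⟨t', h4, h5⟩ := T0_le (K := (ψ₁.eqLocus ψ₂).map ψ₂) ⟨y, y₁.trans y₂.symm, y₂⟩ ⟨z, z₁.trans z₂.symm, z₂⟩
    ⟨w, w₁.trans w₂.symm, w₂⟩ ht
  exact i₂ h5 ▸ h4

variable {Ω : Type} [Fintype Ω] [DecidableEq Ω] {X H T M S : Subgroup (Perm Ω)}

theorem nf2 (hT : Nat.card T = 13685760) (hΩ : Fintype.card Ω = 20736) (u : Up X H T M S) (e : S ≃* G0) {y : Perm Ω}
    (h1 : y ∈ T) {a : Ω} (h2 : y a = a) (hy : orderOf y = 11) :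
    ∃ φ : S ≃* G0, (φ ⟨y, u.le h1⟩ = x ∨ φ ⟨y, u.le h1⟩ = x⁻¹) ∧ (∀ s, s ∈ T.subgroupOf S ↔ φ s ∈ T0) ∧
      ∀ s, s ∈ (M ⊓ stabilizer (Perm Ω) a).subgroupOf S ↔ φ s ∈ B0 := by
  have k : ∀ (K : Subgroup S) (s : S), s ∈ K ↔ e s ∈ K.map e.toMonoidHom := fun K s =>
    (mem_map_iff_mem (f := e.toMonoidHom) e.injective).symm
  have hB : Nat.card (((M ⊓ stabilizer (Perm Ω) a).subgroupOf S).map e.toMonoidHom) = 443520 := by
    have h3 := card_mul_index (((M ⊓ stabilizer (Perm Ω) a).subgroupOf S).map e.toMonoidHom)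
    have h4 : ((M ⊓ stabilizer (Perm Ω) a).subgroupOf S).index = 20736 :=
      (u.fac a).relIndex_eq.symm.trans ((u.relIndex a).trans hΩ)
    rw [index_map_of_bijective e.bijective, h4, card_PSU] at h3
    omega
  obtain ⟨β, h3, h4, h5⟩ := nf0 (T := (T.subgroupOf S).map e.toMonoidHom) (by
      rw [card_map_of_injective (f := e.toMonoidHom) e.injective, Nat.card_congr (subgroupOfEquivOfLe u.le).toEquiv, hT]) hB
    (fun g => by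
      obtain ⟨t, ht, b, hb, e'⟩ := (u.fac a).fac _ (e.symm g).2
      have hbS : b ∈ S := (S.mul_mem_cancel_left (u.le ht)).1 (e' ▸ (e.symm g).2)
      exact ⟨_, (k _ ⟨t, u.le ht⟩).1 ht, _, (k _ ⟨b, hbS⟩).1 hb, by
        rw [← map_mul, ← e.symm_apply_eq]
        exact Subtype.ext e'⟩)
    ((k _ ⟨y, u.le h1⟩).1 h1) ((k _ ⟨y, u.le h1⟩).1 ⟨u.socM.le (u.le h1), h2⟩)
    (by rw [e.orderOf_eq, ← hy]; exact (orderOf_coe _).symm)
  exact ⟨e.trans β, h3, fun s => (k _ s).trans (h4 _), fun s => (k _ s).trans (h5 _)⟩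

/-- **The row `(U₅(2), 20736)`**: at most two overgroups with socle `U₆(2)`. -/
theorem row_F4 (X H T : Subgroup (Perm Ω)) (hT : Nat.card T = 13685760) (hΩ : Fintype.card Ω = 20736) :
    {M | ∃ S, Up X H T M S ∧ Nonempty (S ≃* PSU 6 F4 2)}.ncard ≤ 2 := by
  rcases {M | ∃ S, Up X H T M S ∧ Nonempty (S ≃* PSU 6 F4 2)}.eq_empty_or_nonempty with h | ⟨M₀, S₀, u₀, ⟨e₀⟩⟩
  · rw [h]
    simp
  have : Fact (Nat.Prime 11) := ⟨by norm_num⟩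
  obtain ⟨y, hy⟩ := exists_prime_orderOf_dvd_card' (G := T) 11 (by rw [hT]; norm_num)
  have hy' : orderOf (y : Perm Ω) = 11 := (orderOf_coe _).trans hy
  obtain ⟨a, ha⟩ := Perm.exists_fixed_point_of_prime (p := 11) (n := 1) (by rw [hΩ]; norm_num) (σ := (y : Perm Ω))
    (by rw [pow_one, ← hy', pow_orderOf_eq_one])
  obtain ⟨φ₀, k1, k2, -⟩ := nf2 hT hΩ u₀ e₀ y.2 ha hy'
  have hz : ((φ₀.symm f : S₀) : Perm Ω) ∈ T := (k2 _).2 (by rw [φ₀.apply_symm_apply]; exact fT)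
  have hzy : ((φ₀.symm f : S₀) : Perm Ω) * y * ((φ₀.symm f : S₀) : Perm Ω)⁻¹ = y ^ 4 := by
    refine congrArg Subtype.val (φ₀.injective (a₁ := φ₀.symm f * ⟨y, u₀.le y.2⟩ * (φ₀.symm f)⁻¹) (a₂ := ⟨y, u₀.le y.2⟩ ^ 4) ?_)
    rw [map_mul, map_mul, map_inv, map_pow, φ₀.apply_symm_apply]
    rcases k1 with k | k <;> rw [k]
    · exact fx
    · rw [inv_pow, ← fx]
      group
  generalize ((φ₀.symm f : S₀) : Perm Ω) = z at hz hzy
  refine (ncard_le_of_col (C := {y, y⁻¹}) (Set.toFinite _) (fun M v => ∃ S, ∃ u : Up X H T M S, ∃ φ : S ≃* G0,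
    φ ⟨v, u.le v.2⟩ = x ∧ φ ⟨z, u.le hz⟩ = f ∧ (∀ s, s ∈ T.subgroupOf S ↔ φ s ∈ T0) ∧
      ∀ s, s ∈ (M ⊓ stabilizer (Perm Ω) a).subgroupOf S ↔ φ s ∈ B0) ?_ ?_).trans ((Set.ncard_insert_le _ _).trans (by simp))
  · rintro M ⟨S, u, ⟨e⟩⟩
    obtain ⟨φ, h1, h2, h3⟩ := nf2 hT hΩ u e y.2 ha hy'
    obtain ⟨ψ, h4 | h4, h5⟩ := nf1 (z := ⟨z, u.le hz⟩) (Subtype.ext hzy) φ h1 h2 h3
    · exact ⟨y, Or.inl rfl, S, u, ψ, h4, h5⟩
    · exact ⟨y⁻¹, Or.inr rfl, S, u, ψ, h4, h5⟩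
  · rintro M₁ - M₂ - v - ⟨S₁, u₁, φ₁, y₁, z₁, -, b₁⟩ ⟨S₂, u₂, φ₂, y₂, z₂, t₂, b₂⟩
    refine u₁.rig_model u₂ φ₁ φ₂ (MulEquiv.refl _) (fun t ht => ?_) (a := a) (b := a) fun s s' hs e =>
      ((b₂ s').2 (e ▸ (b₁ s).1 ⟨u₁.socM.le s.2, hs⟩)).2
    exact agree (ψ₁ := φ₁.toMonoidHom.comp (inclusion u₁.le)) (ψ₂ := φ₂.toMonoidHom.comp (inclusion u₂.le))
      (φ₁.injective.comp (inclusion_injective _)) (φ₂.injective.comp (inclusion_injective _)) (y := v) (z := ⟨z, hz⟩)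
      (w := ⟨φ₂.symm c, (t₂ _).2 (by rw [φ₂.apply_symm_apply]; exact cT)⟩) y₁ y₂ z₁ z₂ (φ₂.apply_symm_apply c)
      (t := ⟨t, ht⟩) ((t₂ ⟨t, u₂.le ht⟩).1 ht)

/-- the field may depend on the overgroup -/
theorem row' (X H T : Subgroup (Perm Ω)) (hT : Nat.card T = 13685760) (hΩ : Fintype.card Ω = 20736)
    {O : Set (Subgroup (Perm Ω))} (h : ∀ M ∈ O, ∃ S, Up X H T M S ∧ ∃ (F : Type) (_ : Field F) (_ : Fintype F),
      Fintype.card F = 2 ^ 2 ∧ Nonempty (S ≃* PSU 6 F 2)) : O.ncard ≤ 2 :=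
  (Set.ncard_le_ncard fun M hM => by
    obtain ⟨S, u, F, _, _, hF, ⟨e⟩⟩ := h M hM
    exact ⟨S, u, ⟨e.trans (LieClassical.FieldTransfer.psuCongr 6 2
      (FiniteField.ringEquivOfCardEq (hF.trans (by decide : 2 ^ 2 = Fintype.card F4))))⟩⟩).trans (row_F4 X H T hT hΩ)

/-- the same over one field with four elements -/
theorem row (F : Type) [Field F] [Fintype F] (hF : Fintype.card F = 2 ^ 2) (X H T : Subgroup (Perm Ω))
    (hT : Nat.card T = 13685760) (hΩ : Fintype.card Ω = 20736) :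
    {M | ∃ S, Up X H T M S ∧ Nonempty (S ≃* PSU 6 F 2)}.ncard ≤ 2 :=
  row' X H T hT hΩ fun _ ⟨S, u, e⟩ => ⟨S, u, F, _, _, hF, e⟩

end Cfsg.Agent.SM.Uj
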