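import Cfsg.Agent.H365.RIM.U62N
import Cfsg.Agent.H365.RIM.U62Five
import Cfsg.Agent.S0279

/-!
# SM: words and stabiliser chains in `SU₆(2)` (helper88)

A vector is a number below `4096`, a matrix is the packed list of the images of the twelve numbers `2 ^ k`.
-/

set_option autoImplicit false

namespace Cfsg.Agent.SM.Uj

open Cfsg Matrix Cfsg.Agent.SporadicA.FieldFour Cfsg.Agent.H852.USixElts Cfsg.Agent.H365.RIM

/-- forcing -/
noncomputable def frc {β : Type} (x : ℕ) (f : ℕ → β) : β := Nat.rec (f 0) (fun n _ => f (Nat.succ n)) x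

theorem frc_eq {β : Type} (x : ℕ) (f : ℕ → β) : frc x f = f x := by cases x <;> rfl

/-- forcing of lists -/
noncomputable def frcL {β : Type} (l : List ℕ) : (List ℕ → β) → β :=
  List.rec (fun k => k []) (fun a _ ih k => frc a fun a' => ih fun l' => k (a' :: l')) l

theorem frcL_eq {β : Type} : ∀ (l : List ℕ) (k : List ℕ → β), frcL l k = k l
  | [], _ => rfl
  | a :: l, k => by
    show frc a (fun a' => frcL l fun l' => k (a' :: l')) = _
    rw [frc_eq, frcL_eq l]

/-- bit test -/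
def tb (a k : ℕ) : Bool := Nat.beq (Nat.land (Nat.shiftRight a k) 1) 1

theorem tb_eq (a k : ℕ) : tb a k = a.testBit k := by
  show Nat.beq ((a >>> k) &&& 1) 1 = _
  rw [Nat.and_one_is_mod, Nat.testBit_eq_decide_div_mod_eq, Nat.shiftRight_eq_div_pow]
  rcases Nat.mod_two_eq_zero_or_one (a / 2 ^ k) with h | h <;> rw [h] <;> rfl

/-- the vector -/
def dec (n : ℕ) : Fin 6 → F4 := fun i => F4.ofNat ((n >>> (2 * i.1)) % 4)

theorem ofNat_xor : ∀ a < 4, ∀ b < 4, F4.ofNat (a ^^^ b) = F4.ofNat a + F4.ofNat b := by decide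

theorem dec_xor (a b : ℕ) : dec (a ^^^ b) = dec a + dec b := funext fun i => by
  show F4.ofNat (((a ^^^ b) >>> (2 * i.1)) % 2 ^ 2) = F4.ofNat _ + F4.ofNat _
  rw [Nat.shiftRight_xor_distrib, Nat.xor_mod_two_pow]
  exact ofNat_xor _ (Nat.mod_lt _ (by norm_num)) _ (Nat.mod_lt _ (by norm_num))

theorem dec_zero : dec 0 = 0 := by decide

theorem dec_mod (a : ℕ) : dec (a % 4096) = dec a := funext fun i => by
  unfold dec
  congr 1
  rw [Nat.shiftRight_eq_div_pow, Nat.shiftRight_eq_div_pow]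
  fin_cases i <;> simp only [] <;> omega

theorem toNat_ofNat : ∀ a < 4, (F4.ofNat a).toNat = a := by decide

theorem dec_inj {a b : ℕ} (ha : a < 4096) (hb : b < 4096) (h : dec a = dec b) : a = b := by
  have k : ∀ i : Fin 6, a / 2 ^ (2 * i.1) % 4 = b / 2 ^ (2 * i.1) % 4 := fun i => by
    have k1 := congrArg F4.toNat (congrFun h i)
    unfold dec at k1
    rwa [toNat_ofNat _ (Nat.mod_lt _ (by norm_num)), toNat_ofNat _ (Nat.mod_lt _ (by norm_num)),
      Nat.shiftRight_eq_div_pow, Nat.shiftRight_eq_div_pow] at k1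
  have k0 : a / 1 % 4 = b / 1 % 4 := k 0
  have k1 : a / 4 % 4 = b / 4 % 4 := k 1
  have k2 : a / 16 % 4 = b / 16 % 4 := k 2
  have k3 : a / 64 % 4 = b / 64 % 4 := k 3
  have k4 : a / 256 % 4 = b / 256 % 4 := k 4
  have k5 : a / 1024 % 4 = b / 1024 % 4 := k 5
  omega

theorem dec_single : ∀ i : Fin 6, dec (2 ^ (2 * i.1)) = Pi.single i 1 := by decide

/-- an entry -/
def get (P k : ℕ) : ℕ := Nat.mod (Nat.shiftRight P (Nat.mul 12 k)) 4096

/-- partial sums -/
noncomputable def apN (P v n : ℕ) : ℕ := Nat.rec 0 (fun k r => Bool.rec r (Nat.xor r (get P k)) (tb v k)) n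

/-- the image of a vector -/
noncomputable def app (P v : ℕ) : ℕ := Nat.mod (apN P v 12) 4096

theorem app_lt (P v : ℕ) : app P v < 4096 := Nat.mod_lt _ (by norm_num)

/-- `P` is the code of `A` -/
def Rep (P : ℕ) (A : M6) : Prop := ∀ k < 12, dec (get P k) = A *ᵥ dec (2 ^ k)

theorem Rep.apN {P : ℕ} {A : M6} (h : Rep P A) (v : ℕ) : ∀ n, n ≤ 12 → dec (apN P v n) = A *ᵥ dec (v % 2 ^ n)
  | 0, _ => by rw [pow_zero, Nat.mod_one, dec_zero, mulVec_zero]; exact dec_zero
  | n + 1, hn => by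
    have ih := h.apN v n (by omega)
    have h1 : Uj.apN P v (n + 1) = Bool.rec (Uj.apN P v n) (Uj.apN P v n ^^^ get P n) (tb v n) := rfl
    rw [h1, tb_eq]
    cases h2 : v.testBit n
    · have h3 : v % 2 ^ (n + 1) = v % 2 ^ n := Nat.eq_of_testBit_eq fun i => by
        rw [Nat.testBit_mod_two_pow, Nat.testBit_mod_two_pow]
        by_cases k : i = n
        · simp [k, h2]
        · congr 1
          exact decide_eq_decide.2 (by omega)
      rw [h3]
      exact ih
    · have h3 : v % 2 ^ (n + 1) = v % 2 ^ n ^^^ 2 ^ n := Nat.eq_of_testBit_eq fun i => by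
        rw [Nat.testBit_xor, Nat.testBit_mod_two_pow, Nat.testBit_mod_two_pow, Nat.testBit_two_pow]
        by_cases k : i = n
        · simp [k, h2]
        · rw [decide_eq_false (show ¬ n = i from fun e => k e.symm), Bool.xor_false]
          congr 1
          exact decide_eq_decide.2 (by omega)
      show dec (_ ^^^ _) = _
      rw [h3, dec_xor, dec_xor, mulVec_add, ih, h n (by omega)]

theorem Rep.app {P : ℕ} {A : M6} (h : Rep P A) (v : ℕ) : dec (app P v) = A *ᵥ dec v := by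
  show dec (_ % 4096) = _
  rw [dec_mod, h.apN v 12 le_rfl]
  exact congrArg _ (dec_mod v)

theorem Rep.eq {P : ℕ} {A B : M6} (h : Rep P A) (h' : Rep P B) : A = B := by
  ext i j
  have h1 := (h (2 * j.1) (by omega)).symm.trans (h' (2 * j.1) (by omega))
  rw [dec_single, mulVec_single_one, mulVec_single_one] at h1
  exact congrFun h1 i

/-- packing -/
noncomputable def pk (f : ℕ → ℕ) (l : List ℕ) : ℕ := List.rec 0 (fun a _ r => Nat.add (f a) (Nat.mul 4096 r)) l

theorem get_pk {f : ℕ → ℕ} (hf : ∀ a, f a < 4096) : ∀ (l : List ℕ) (k : ℕ) (h : k < l.length), get (pk f l) k = f l[k]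
  | a :: l, 0, _ => by
    show (f a + 4096 * pk f l) % 4096 = f a
    have := hf a
    omega
  | a :: l, k + 1, h => by
    have h0 : k < l.length := Nat.lt_of_succ_lt_succ h
    have ih : (pk f l >>> (12 * k)) % 4096 = f l[k] := get_pk hf l k h0
    show ((f a + 4096 * pk f l) >>> (12 * (k + 1))) % 4096 = f l[k]
    rw [← ih, show 12 * (k + 1) = 12 + 12 * k by ring, Nat.shiftRight_add, Nat.shiftRight_eq_div_pow _ 12]
    have := hf a
    congr 2
    omega

/-- the product -/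
noncomputable def cmp (P Q : ℕ) : ℕ := pk (fun k => frc (get Q k) (app P)) [0, 1, 2, 3, 4, 5, 6, 7, 8, 9, 10, 11]

theorem Rep.mul {P Q : ℕ} {A B : M6} (h : Rep P A) (h' : Rep Q B) : Rep (cmp P Q) (A * B) := fun k hk => by
  unfold cmp
  rw [get_pk (fun a => by rw [frc_eq]; exact app_lt _ _) [0, 1, 2, 3, 4, 5, 6, 7, 8, 9, 10, 11] k hk, frc_eq, h.app,
    ← mulVec_mulVec, ← h' k hk]
  interval_cases k <;> rfl

/-- the identity -/
def idC : ℕ := 0x800400200100080040020010008004002001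

theorem rep_one : Rep idC 1 := by unfold Rep; decide +kernel

/-- the group -/
abbrev SU6 : Type := SU 6 F4 2

/-- `P` is the code of an element of `K` -/
def In (K : Subgroup SU6) (P : ℕ) : Prop := ∃ a ∈ K, Rep P (mat a)

/-- words -/
noncomputable def ev (gs w : List ℕ) : ℕ := List.rec idC (fun i _ r => frc r fun r => cmp (gs.getD i idC) r) w

theorem ev_in {K : Subgroup SU6} {gs : List ℕ} (h : ∀ P ∈ gs, In K P) : ∀ w, In K (ev gs w)
  | [] => ⟨1, K.one_mem, rep_one⟩
  | i :: w => by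
    obtain ⟨a, ha, h1⟩ := ev_in h w
    obtain ⟨b, hb, h2⟩ : In K (gs.getD i idC) := by
      by_cases k : i < gs.length
      · rw [List.getD_eq_getElem _ _ k]
        exact h _ (List.getElem_mem k)
      · rw [List.getD_eq_default _ _ (by omega)]
        exact ⟨1, K.one_mem, rep_one⟩
    refine ⟨b * a, K.mul_mem hb ha, ?_⟩
    show Rep (frc (ev gs w) fun r => cmp (gs.getD i idC) r) _
    rw [frc_eq, mat_mul]
    exact h2.mul h1

theorem mem_of_ev {K : Subgroup SU6} {gs : List ℕ} (h : ∀ P ∈ gs, In K P) {w : List ℕ} {P : ℕ} {a : SU6}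
    (ha : Rep P (mat a)) (e : Nat.beq (ev gs w) P = true) : a ∈ K := by
  obtain ⟨b, hb, h1⟩ := ev_in h w
  rw [Nat.eq_of_beq_eq_true e] at h1
  rwa [mat_inj (ha.eq h1)]

/-- one vertex of the search -/
noncomputable def inn (v : ℕ) (k : List ℕ → ℕ → ℕ → ℕ) (gs : List ℕ) : List ℕ → ℕ → ℕ → ℕ :=
  List.rec k (fun g _ ih st m c => frc (app g v) fun u =>
    Bool.rec (frc (Nat.lor m (Nat.pow 2 u)) fun m => frc (Nat.succ c) fun c => ih (u :: st) m c) (ih st m c) (tb m u)) gs

/-- the search -/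
noncomputable def bfs (gs : List ℕ) (n : ℕ) : List ℕ → ℕ → ℕ → ℕ :=
  Nat.rec (fun _ _ c => c) (fun _ ih st => List.rec (fun _ c => c) (fun v st _ => inn v ih gs st) st) n

/-- the invariant -/
def Inv (O : Set (Fin 6 → F4)) (st : List ℕ) (m c : ℕ) : Prop :=
  (∀ v ∈ st, dec v ∈ O) ∧ ∃ s : Finset ℕ, s.card = c ∧ ∀ v ∈ s, v < 4096 ∧ dec v ∈ O ∧ m.testBit v = true

theorem Inv.le {O : Set (Fin 6 → F4)} {st : List ℕ} {m c : ℕ} (h : Inv O st m c) : c ≤ O.ncard := by
  obtain ⟨-, s, rfl, hs⟩ := h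
  rw [← Set.ncard_coe_finset]
  exact Set.ncard_le_ncard_of_injOn dec (fun v hv => (hs v hv).2.1)
    (fun a ha b hb e => dec_inj (hs a ha).1 (hs b hb).1 e) (Set.toFinite _)

theorem inn_le {O : Set (Fin 6 → F4)} {v : ℕ} {k : List ℕ → ℕ → ℕ → ℕ}
    (hk : ∀ st m c, Inv O st m c → k st m c ≤ O.ncard) :
    ∀ gs : List ℕ, (∀ g ∈ gs, dec (app g v) ∈ O) → ∀ st m c, Inv O st m c → inn v k gs st m c ≤ O.ncard
  | [], _ => hk
  | g :: gs, h => fun st m c hi => by
    have ih := inn_le hk gs fun a ha => h a (List.mem_cons_of_mem _ ha)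
    have h1 : inn v k (g :: gs) st m c = frc (app g v) fun u => Bool.rec (frc (m ||| 2 ^ u) fun m =>
      frc (Nat.succ c) fun c => inn v k gs (u :: st) m c) (inn v k gs st m c) (tb m u) := rfl
    rw [h1, frc_eq, tb_eq]
    cases h2 : m.testBit (app g v)
    · show frc _ _ ≤ _
      rw [frc_eq, frc_eq]
      obtain ⟨k1, s, k2, k3⟩ := hi
      refine ih _ _ _ ⟨fun u hu => ?_, insert (app g v) s, ?_, fun u hu => ?_⟩
      · rcases List.mem_cons.1 hu with rfl | hu
        · exact h g List.mem_cons_self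
        · exact k1 u hu
      · rw [Finset.card_insert_of_notMem fun e => by simp [(k3 _ e).2.2] at h2, k2]
      · rw [Nat.testBit_or]
        rcases Finset.mem_insert.1 hu with rfl | hu
        · exact ⟨app_lt _ _, h g List.mem_cons_self, by simp⟩
        · exact ⟨(k3 u hu).1, (k3 u hu).2.1, by simp [(k3 u hu).2.2]⟩
    · exact ih _ _ _ hi

theorem bfs_le {O : Set (Fin 6 → F4)} {gs : List ℕ} (h : ∀ g ∈ gs, ∀ v, dec v ∈ O → dec (app g v) ∈ O) :
    ∀ n st m c, Inv O st m c → bfs gs n st m c ≤ O.ncard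
  | 0, _, _, _, hi => hi.le
  | _ + 1, [], _, _, hi => hi.le
  | n + 1, v :: st, m, c, hi =>
    inn_le (bfs_le h n) gs (fun g hg => h g hg v (hi.1 v List.mem_cons_self)) st m c
      ⟨fun u hu => hi.1 u (List.mem_cons_of_mem _ hu), hi.2⟩

/-- the stabiliser of a vector -/
def stb (v : Fin 6 → F4) : Subgroup SU6 where
  carrier := {a | mat a *ᵥ v = v}
  one_mem' := one_mulVec v
  mul_mem' := fun {a b} ha hb => by
    show mat (a * b) *ᵥ v = v
    rw [mat_mul, ← mulVec_mulVec, hb, ha]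
  inv_mem' := fun {a} ha => by
    show mat a⁻¹ *ᵥ v = v
    conv_lhs => rw [← ha, mulVec_mulVec, ← mat_mul, inv_mul_cancel, mat_one, one_mulVec]

theorem finite_SU : Finite SU6 := Finite.of_injective mat fun _ _ => mat_inj

theorem orb_le (K : Subgroup SU6) (v : Fin 6 → F4) :
    {u | ∃ a ∈ K, mat a *ᵥ v = u}.ncard * Nat.card ↥(K ⊓ stb v) ≤ Nat.card K := by
  have := finite_SU
  have h1 : {u | ∃ a ∈ K, mat a *ᵥ v = u}.ncard ≤ (stb v).relIndex K := by
    let f : K ⧸ (stb v).subgroupOf K → Fin 6 → F4 := Quotient.lift (fun a : K => mat a *ᵥ v) fun a b k => by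
      have k1 : mat ((a : SU6)⁻¹ * b) *ᵥ v = v := QuotientGroup.leftRel_apply.1 k
      conv_lhs => rw [← k1, mulVec_mulVec, ← mat_mul, mul_inv_cancel_left]
    refine le_trans (Set.ncard_le_ncard (t := f '' Set.univ) ?_) ((Set.ncard_image_le).trans (Set.ncard_univ _).le)
    rintro _ ⟨a, ha, rfl⟩
    exact ⟨QuotientGroup.mk ⟨a, ha⟩, trivial, rfl⟩
  rw [← ((stb v).subgroupOf K).index_mul_card, ← Subgroup.inf_subgroupOf_left,
    Nat.card_congr (Subgroup.subgroupOfEquivOfLe (inf_le_left : K ⊓ stb v ≤ K)).toEquiv, Subgroup.inf_subgroupOf_left]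
  exact Nat.mul_le_mul_right _ h1

/-- stabiliser chains: base vector, length of the orbit, words for the next level -/
noncomputable def chain (L : List (ℕ × ℕ × List (List ℕ))) : List ℕ → Bool :=
  List.rec (fun _ => true) (fun p _ ih gs => Nat.blt p.1 4096 &&
    Nat.ble p.2.1 (bfs gs p.2.1 [p.1] (2 ^ p.1) 1) &&
      frcL (p.2.2.map (ev gs)) fun gs => (gs.all fun g => Nat.beq (app g p.1) p.1) && ih gs) L

theorem chain_le : ∀ (L : List (ℕ × ℕ × List (List ℕ))) (K : Subgroup SU6) (gs : List ℕ), (∀ P ∈ gs, In K P) →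
    chain L gs = true → (L.map fun p => p.2.1).prod ≤ Nat.card K
  | [], K, _, _, _ => by
    have := finite_SU
    exact Nat.card_pos
  | p :: L, K, gs, h, e => by
    have e' : (Nat.blt p.1 4096 && Nat.ble p.2.1 (bfs gs p.2.1 [p.1] (2 ^ p.1) 1) &&
      frcL (p.2.2.map (ev gs)) fun gs => (gs.all fun g => Nat.beq (app g p.1) p.1) && chain L gs) = true := e
    simp only [frcL_eq, Bool.and_eq_true, List.all_eq_true, Nat.blt_eq, Nat.ble_eq, Nat.beq_eq] at e'
    obtain ⟨⟨e1, e2⟩, e3, e4⟩ := e'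
    have h0 : dec p.1 ∈ {u | ∃ a ∈ K, mat a *ᵥ dec p.1 = u} := ⟨1, K.one_mem, one_mulVec _⟩
    have h1 := e2.trans (bfs_le (O := {u | ∃ a ∈ K, mat a *ᵥ dec p.1 = u}) (fun g hg v ⟨a, ha, k⟩ => by
      obtain ⟨b, hb, k1⟩ := h g hg
      exact ⟨b * a, K.mul_mem hb ha, by rw [k1.app, ← k, mat_mul, mulVec_mulVec]⟩) _ _ _ _
        ⟨fun v hv => by rwa [List.mem_singleton.1 hv], {p.1}, rfl, fun v hv => by
          rw [Finset.mem_singleton.1 hv]
          exact ⟨e1, h0, by simp⟩⟩)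
    have h2 := chain_le L (K ⊓ stb (dec p.1)) _ (fun P hP => by
      obtain ⟨u, -, rfl⟩ := List.mem_map.1 hP
      obtain ⟨a, ha, k⟩ := ev_in h u
      exact ⟨a, ⟨ha, by show mat a *ᵥ _ = _; rw [← k.app, e3 _ hP]⟩, k⟩) e4
    exact (Nat.mul_le_mul h1 h2).trans (orb_le K _)

theorem card_comap (K : Subgroup (PSU 6 F4 2)) : Nat.card (K.comap pr) = 3 * Nat.card K := by
  have := finite_SU
  have h1 := (K.comap pr).card_mul_index
  rw [Subgroup.index_comap_of_surjective _ (QuotientGroup.mk'_surjective _),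
    Subgroup.card_eq_card_quotient_mul_card_subgroup (Subgroup.center SU6), S0279.result hF4 6 (by norm_num),
    ← K.card_mul_index] at h1
  refine Nat.eq_of_mul_eq_mul_right (Nat.pos_of_ne_zero K.index_ne_zero_of_finite) (h1.trans ?_)
  rw [show Nat.gcd 6 (2 + 1) = 3 by decide]
  ring

end Cfsg.Agent.SM.Uj
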