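import Cfsg.Agent.SM.Uj.Eng
import Cfsg.Agent.LieClassical.FieldTransfer

/-!
# SM: the overgroups of `11 : 5` in `U₆(2)` (helper88)
-/

set_option autoImplicit false

namespace Cfsg.Agent.SM.Uj

open Cfsg Matrix Cfsg.Agent.SporadicA.FieldFour F4 Cfsg.Agent.H852.USixElts Cfsg.Agent.H365.RIM Cfsg.Agent.H365.RIM.Five
  Cfsg.Agent.H410.QA Subgroup

/-- the simple group -/
abbrev G0 : Type := PSU 6 F4 2

def XM : M6 := !![w,z,w,z,v,z; o,z,v,z,v,z; w,w,v,w,w,z; v,w,o,o,v,z; w,v,v,o,w,z; z,z,z,z,z,o]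
def WM : M6 := w • (1 : M6)
def DM : M6 := !![o,z,z,z,z,z; z,o,z,z,z,z; z,z,o,z,z,z; z,z,z,o,z,z; z,z,z,z,o,z; z,z,z,z,z,w]

def xx : SU6 := mk XM (by decide +kernel) (by decide +kernel)
def ww : SU6 := mk WM (by decide +kernel) (by decide +kernel)

def cX : ℕ := 0x8004003752ef2b016019737e1f03a037b2e6
def cF : ℕ := 0x800400080040020010008004002001200100
def cG : ℕ := 0x800400080040008004200100020010002001
def cS : ℕ := 0x2aa1558aa455a2a515a8a545aa2551aa8554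
def cC : ℕ := 0x400c003552ff1d53bf1753ef15d3fb1573fe
def cW : ℕ := 0xc008003002000c008003002000c008003002

theorem rX : Rep cX (mat xx) := by show Rep cX XM; unfold Rep; decide +kernel
theorem rF : Rep cF (mat p5) := by show Rep cF P5; unfold Rep; decide +kernel
theorem rG : Rep cG (mat y5) := by show Rep cG Y5; unfold Rep; decide +kernel
theorem rS : Rep cS (mat tt) := by show Rep cS TT; unfold Rep; decide +kernel
theorem rC : Rep cC (mat zz) := by show Rep cC ZZ; unfold Rep; decide +kernel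
theorem rW : Rep cW (mat ww) := by show Rep cW WM; unfold Rep; decide +kernel

/-- powers -/
noncomputable def pw (P n : ℕ) : ℕ := Nat.rec idC (fun _ r => frc r fun r => cmp r P) n

theorem Rep.pow {P : ℕ} {A : M6} (h : Rep P A) : ∀ n, Rep (pw P n) (A ^ n)
  | 0 => rep_one
  | n + 1 => by
    show Rep (frc (pw P n) fun r => cmp r P) _
    rw [frc_eq, pow_succ]
    exact (h.pow n).mul h

theorem Rep.eq' {P Q : ℕ} {a b : SU6} (h : Rep P (mat a)) (h' : Rep Q (mat b)) (e : Nat.beq P Q = true) : a = b :=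
  mat_inj (h.eq (Nat.eq_of_beq_eq_true e ▸ h'))

theorem Rep.m {P Q : ℕ} {a b : SU6} (h : Rep P (mat a)) (h' : Rep Q (mat b)) : Rep (cmp P Q) (mat (a * b)) := h.mul h'

theorem Rep.p {P : ℕ} {a : SU6} (h : Rep P (mat a)) (n : ℕ) : Rep (pw P n) (mat (a ^ n)) := mat_pow a n ▸ h.pow n

theorem Rep.ne {P : ℕ} {a : SU6} (h : Rep P (mat a)) (e : dec (get P 0) 1 ≠ 0) : pr a ≠ 1 := by
  refine pr_ne_one 1 0 (by decide) fun k => e ?_
  rw [h 0 (by norm_num), show dec (2 ^ 0) = Pi.single 0 1 from dec_single 0, mulVec_single_one]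
  exact k

theorem pr_ww : pr ww = 1 := (QuotientGroup.eq_one_iff _).2 (mem_center_iff.2 fun a => mat_inj (by
  show mat a * (w • (1 : M6)) = (w • (1 : M6)) * mat a
  rw [Matrix.mul_smul, Matrix.smul_mul, mul_one, one_mul]))

/-- order 11 -/
def x : G0 := pr xx
/-- order 5 -/
def f : G0 := pr p5
/-- order 4 -/
def g : G0 := pr y5
/-- a transvection -/
def s : G0 := pr tt
/-- order 3 -/
def c : G0 := pr zz

theorem ord_x : orderOf x = 11 := orderOf_pr (by norm_num) ((rX.p 11).eq' rep_one (by decide +kernel)) (rX.ne (by decide +kernel))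
theorem ord_f : orderOf f = 5 := order_p5
theorem ord_s : orderOf s = 2 := order_tt
theorem ord_c : orderOf c = 3 := order_zz
theorem f5 : f ^ 5 = 1 := by rw [← ord_f, pow_orderOf_eq_one]
theorem s2 : s ^ 2 = 1 := orderOf_dvd_iff_pow_eq_one.1 ord_s.dvd
theorem c3 : c ^ 3 = 1 := by rw [← ord_c, pow_orderOf_eq_one]
theorem g4 : g ^ 4 = 1 := by
  show pr y5 ^ 4 = 1
  rw [← map_pow, (rG.p 4).eq' (b := 1) rep_one (by decide +kernel), map_one]
theorem fx : f * x * f⁻¹ = x ^ 4 := by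
  show pr p5 * pr xx * (pr p5)⁻¹ = pr xx ^ 4
  rw [mul_inv_eq_iff_eq_mul, ← map_pow, ← map_mul, ← map_mul, (rF.m rX).eq' ((rX.p 4).m rF) (by decide +kernel)]
theorem gf : g * f * g⁻¹ = f ^ 2 := y5_p5
theorem gs : Commute g s := by
  show pr y5 * pr tt = pr tt * pr y5
  rw [← map_mul, ← map_mul, (rG.m rS).eq' (rS.m rG) (by decide +kernel)]
theorem gc : Commute g c := by
  show pr y5 * pr zz = pr zz * pr y5
  rw [← map_mul, ← map_mul, (rG.m rC).eq' (rC.m rG) (by decide +kernel)]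
theorem sf : Commute s f := mem_centralizer_singleton_iff.1 tt_mem
theorem cf : Commute c f := mem_centralizer_singleton_iff.1 zz_mem
theorem sc : s * c = c ^ 2 * s := tt_zz
theorem xc9 : (x * c) ^ 9 ≠ 1 := by
  show (pr xx * pr zz) ^ 9 ≠ 1
  rw [← map_mul, ← map_pow]
  exact ((rX.m rC).p 9).ne (by decide +kernel)
theorem xcc9 : (x * c ^ 2) ^ 9 = 1 := by
  show (pr xx * pr zz ^ 2) ^ 9 = 1
  rw [← map_pow, ← map_mul, ← map_pow, ((rX.m (rC.p 2)).p 9).eq' (b := 1) rep_one (by decide +kernel), map_one]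

/-! ### the diagonal automorphism -/

theorem DD : DM * st DM = 1 := by decide +kernel
theorem DD' : st DM * DM = 1 := by decide +kernel
theorem stD : st (st DM) = DM := by decide +kernel

/-- conjugation by a unitary matrix -/
def cjm (A B : M6) (h : A * B = 1) (h' : B * A = 1) (hA : st A = B) (hB : st B = A) (a : SU6) : SU6 :=
  mk (A * mat a * B) (by
    rw [st_mul, st_mul, hA, hB]
    calc A * (st (mat a) * B) * (A * mat a * B) = A * (st (mat a) * (B * A) * mat a) * B := by simp only [mul_assoc]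
      _ = 1 := by rw [h', mul_one, st_mat, mul_one, h]) (by
    rw [det_mul, det_mul, det_mat, mul_one, ← det_mul, h, det_one])

/-- on `SU` -/
def dS : SU6 ≃* SU6 where
  toFun := cjm DM (st DM) DD DD' rfl stD
  invFun := cjm (st DM) DM DD' DD stD rfl
  left_inv a := mat_inj (by
    show st DM * (DM * mat a * st DM) * DM = mat a
    rw [← mul_assoc, ← mul_assoc, DD', one_mul, mul_assoc, DD', mul_one])
  right_inv a := mat_inj (by
    show DM * (st DM * mat a * DM) * st DM = mat a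
    rw [← mul_assoc, ← mul_assoc, DD, one_mul, mul_assoc, DD, mul_one])
  map_mul' a b := mat_inj (by
    show DM * (mat a * mat b) * st DM = DM * mat a * st DM * (DM * mat b * st DM)
    calc _ = DM * mat a * (st DM * DM) * mat b * st DM := by rw [DD', mul_one, ← mul_assoc]
      _ = _ := by simp only [mul_assoc])

/-- on `PSU` -/
def dl : MulAut G0 := LieClassical.FieldTransfer.centralQuotientCongr dS

theorem dl_eq {a b : SU6} (h : DM * mat a = mat b * DM) : dl (pr a) = pr b := congrArg pr (mat_inj (by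
  show DM * mat a * st DM = mat b
  rw [h, mul_assoc, DD, mul_one]))

theorem dl_x : dl x = x := dl_eq (show DM * XM = XM * DM by decide +kernel)
theorem dl_f : dl f = f := dl_eq (show DM * P5 = P5 * DM by decide +kernel)
theorem dl_g : dl g = g := dl_eq (show DM * Y5 = Y5 * DM by decide +kernel)
theorem dl_c : dl c = c := dl_eq (show DM * ZZ = ZZ * DM by decide +kernel)
theorem dl_s : dl s = c * c * s := (dl_eq (a := tt) (b := zz * zz * tt)
  (show DM * TT = ZZ * ZZ * TT * DM by decide +kernel)).trans (by rw [map_mul, map_mul]; rfl)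

theorem dl_fix {a : G0} (h : dl a = a) : ∀ m : ℕ, (dl ^ m) a = a
  | 0 => rfl
  | m + 1 => by rw [pow_succ, MulAut.mul_apply, h, dl_fix h m]

theorem dl_pow_s : ∀ m : ℕ, (dl ^ m) s = c ^ (2 * m) * s
  | 0 => (one_mul s).symm
  | m + 1 => by
    rw [pow_succ, MulAut.mul_apply, dl_s, map_mul, map_mul, dl_fix dl_c, dl_pow_s m]
    group

/-- images -/
def mp (m : ℕ) (K : Subgroup G0) : Subgroup G0 := K.map (dl ^ m).toMonoidHom

theorem card_mp (m : ℕ) (K : Subgroup G0) : Nat.card (mp m K) = Nat.card K :=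
  card_map_of_injective (dl ^ m).injective

theorem mem_mp {m : ℕ} {K : Subgroup G0} {a : G0} : (dl ^ m) a ∈ mp m K ↔ a ∈ K :=
  mem_map_iff_mem (f := (dl ^ m).toMonoidHom) (dl ^ m).injective

theorem mem_mp' {m : ℕ} {K : Subgroup G0} {a : G0} (h : dl a = a) : a ∈ mp m K ↔ a ∈ K := by
  conv_lhs => rw [← dl_fix h m]
  exact mem_mp

/-! ### certificates -/

theorem ins {K : Subgroup G0} (hx : x ∈ K) (hf : f ∈ K) {P : ℕ} {a : SU6} (h : Rep P (mat a)) (ha : pr a ∈ K) :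
    ∀ Q ∈ [cX, cF, P, cW], In (K.comap pr) Q := by
  simp only [List.mem_cons, List.not_mem_nil, or_false, forall_eq_or_imp, forall_eq]
  exact ⟨⟨_, hx, rX⟩, ⟨_, hf, rF⟩, ⟨_, ha, h⟩, ⟨ww, by rw [mem_comap, pr_ww]; exact K.one_mem, rW⟩⟩

variable {K : Subgroup G0}

theorem c_of_g (hx : x ∈ K) (hf : f ∈ K) (h : g ∈ K) : c ∈ K := mem_of_ev (ins hx hf rG h)
  (w := [3, 3, 0, 2, 0, 2, 0, 1, 1, 1, 0, 2, 0, 2, 0, 1, 2, 0, 2, 0, 2, 0, 1]) rC (by decide +kernel)

theorem c_of_s (hx : x ∈ K) (hf : f ∈ K) (h : s ∈ K) : c ∈ K := mem_of_ev (ins hx hf rS h)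
  (w := [3, 3, 1, 2, 0, 2, 0, 1, 1, 0, 2, 0, 2, 0, 0, 2, 0, 0, 1, 1, 2, 0, 2, 0, 1, 1, 0, 2, 0, 2, 0, 0, 2, 1, 2, 0, 2, 0, 1,
    1, 0, 2, 0, 2, 0, 0, 2, 1, 2, 0, 2, 0, 1, 1, 0, 2, 0, 2, 0, 0, 2, 0, 2, 0, 2, 0, 1, 1, 0, 2, 0, 2, 0, 0, 2, 2, 0, 2, 0, 1,
    1, 0, 2, 0, 2, 0, 0, 2]) rC (by decide +kernel)

theorem c_of_ggs (hx : x ∈ K) (hf : f ∈ K) (h : g ^ 2 * s ∈ K) : c ∈ K :=
  mem_of_ev (ins hx hf ((rG.p 2).m rS) (by rw [map_mul, map_pow]; exact h))
  (w := [3, 3, 0, 0, 1, 3, 2, 0, 2, 1, 0, 2, 1, 0, 2, 1, 3, 2, 0, 2, 1, 0, 2, 1, 0, 2, 3, 2, 0, 2, 1, 0, 2, 1, 0, 2, 1, 1, 3,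
    2, 0, 2, 1, 0, 2, 1, 0, 2, 1, 1, 1, 3, 2, 0, 2, 1, 0, 2, 1, 0, 2, 0, 0]) rC (by decide +kernel)

theorem leT (hx : x ∈ K) (hf : f ∈ K) (h : c ∈ K) : 13685760 ≤ Nat.card K := by
  have k := chain_le [(1024, 3, [[0], [1], [3, 2]]),
    (1, 528, [[0, 2, 0, 0, 2, 0, 2, 0, 2], [2, 1, 1, 1, 0, 2, 0, 2, 2, 0, 2]]),
    (4, 120, [[1, 1, 0, 1, 1, 0, 1, 1, 1, 0, 0, 0], [0, 1, 1, 1, 1, 0]]), (16, 36, [[0, 1, 0, 0, 1, 0], [1, 0, 0, 1]]),
    (64, 6, [])] _ _ (ins hx hf rC h) (by decide +kernel)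
  rw [card_comap] at k
  exact Nat.le_of_mul_le_mul_left (c := 3) (le_of_eq_of_le (by norm_num) k) (by norm_num)

theorem leB (hx : x ∈ K) (hf : f ∈ K) (h : g * s ∈ K) : 443520 ≤ Nat.card K := by
  have k := chain_le [(1024, 2016, [[0], [1], [2, 2]]), (5, 330, [[2, 1]]), (1, 2, [])] _ _
    (ins hx hf (rG.m rS) h) (by decide +kernel)
  rw [card_comap] at k
  exact Nat.le_of_mul_le_mul_left (c := 3) (le_of_eq_of_le (by norm_num) k) (by norm_num)

end Cfsg.Agent.SM.Uj
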